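/-
The reduced trace and Goldman's element of a split algebra.
-/
import Groth.Agent.AzTPow.Split
import Groth.Agent.S8137

set_option autoImplicit false
set_option linter.style.haveILetI false

universe u

open TensorProduct

noncomputable section

namespace Groth.Agent.AzTPow

variable {R : Type u} [CommRing R] {A : Type u} [Ring A] [Algebra R A] {n : ℕ} {S : Type u} [CommRing S]
  [Algebra R S] (g : A →ₐ[R] Matrix (Fin n) (Fin n) S)

/-- the entries of a tensor square in the splitting -/
def quad : A ⊗[R] A →ₗ[R] (Fin n → Fin n → Fin n → Fin n → S) :=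
  TensorProduct.lift <| LinearMap.mk₂ R (fun a b => fun p q r s => g a p q * g b r s)
    (fun a a' b => by funext p q r s; simp [add_mul])
    (fun c a b => by funext p q r s; simp)
    (fun a b b' => by funext p q r s; simp [mul_add])
    (fun c a b => by funext p q r s; simp)

theorem quad_tmul (a b : A) (p q r s : Fin n) : quad g (a ⊗ₜ[R] b) p q r s = g a p q * g b r s := rfl

variable [Module.FaithfullyFlat R S] (hg : Function.Bijective (extendHom g))
include hg

/-- The trace descends. -/
theorem exists_trd : ∃ f : A →ₗ[R] R, ∀ a, algebraMap R S (f a) = (g a).trace := by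
  classical
  have hinj : Function.Injective (algebraMap R S) := FaithfulSMul.algebraMap_injective R S
  have hex : ∀ a, ∃ r : R, algebraMap R S r = (g a).trace := by
    intro a
    rcases isEmpty_or_nonempty (Fin n) with h | h
    · exact ⟨0, by simp [Matrix.trace]⟩
    let φ := AlgEquiv.ofBijective (extendHom g) hg
    have h11 := S8137.agree R A a n S φ S φ
    have hφ : φ ((1 : S) ⊗ₜ[R] a) = g a := by
      exact (extendHom_tmul g 1 a).trans (one_smul S _)
    rw [hφ] at h11
    refine (Algebra.IsEffective.of_faithfullyFlat R S _).1 ?_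
    show Algebra.TensorProduct.includeLeftSubRight R S _ = 0
    rw [Algebra.TensorProduct.includeLeftSubRight_apply, sub_eq_zero]
    have hc := congrArg (fun P => Polynomial.coeff P (n - 1)) h11
    simp only [Polynomial.coeff_map] at hc
    rw [Matrix.trace_eq_neg_charpoly_coeff, Fintype.card_fin]
    exact (TensorProduct.neg_tmul _ _).trans ((congrArg Neg.neg hc).trans (TensorProduct.tmul_neg _ _).symm)
  choose f hf using hex
  exact ⟨{ toFun := f
           map_add' := fun a b => hinj (by rw [hf, map_add, map_add, Matrix.trace_add, hf, hf])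
           map_smul' := fun c a => hinj (by
            rw [hf, map_smul, Matrix.trace_smul, RingHom.id_apply, smul_eq_mul, map_mul, hf, Algebra.smul_def]) }, hf⟩

/-- Goldman's element. -/
theorem exists_goldman [IsAzumaya R A] :
    ∃ t : A ⊗[R] A, ∀ p q r s, quad g t p q r s = if q = r ∧ p = s then 1 else 0 := by
  classical
  obtain ⟨f, hf⟩ := exists_trd g hg
  obtain ⟨u, hu⟩ := IsAzumaya.bij.2 (LinearMap.smulRight f (1 : A))
  let t : A ⊗[R] A := TensorProduct.map LinearMap.id (MulOpposite.opLinearEquiv R).symm.toLinearMap u
  have key : ∀ (v : A ⊗[R] Aᵐᵒᵖ) (x : A) (p s : Fin n),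
      ∑ q, ∑ r, quad g (TensorProduct.map LinearMap.id (MulOpposite.opLinearEquiv R).symm.toLinearMap v) p q r s * g x q r =
        g (AlgHom.mulLeftRight R A v x) p s := by
    intro v x p s
    induction v with
    | zero => simp
    | add a b ha hb => simp only [map_add, LinearMap.add_apply, Pi.add_apply, add_mul, Finset.sum_add_distrib,
        Matrix.add_apply, ha, hb]
    | tmul a b =>
      rw [TensorProduct.map_tmul, AlgHom.mulLeftRight_apply, map_mul, map_mul, Matrix.mul_apply]
      simp only [Matrix.mul_apply, Finset.sum_mul, quad_tmul]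
      rw [Finset.sum_comm]
      refine Finset.sum_congr rfl fun q _ => Finset.sum_congr rfl fun r _ => ?_
      simp only [LinearMap.id_apply, LinearEquiv.coe_coe, MulOpposite.coe_opLinearEquiv_symm]
      ring
  refine ⟨t, fun p q r s => ?_⟩
  -- a linear form vanishing on all matrices
  let L : Matrix (Fin n) (Fin n) S →ₗ[S] S :=
    { toFun := fun X => ∑ i, ∑ j, quad g t p i j s * X i j - (if p = s then X.trace else 0)
      map_add' := fun X Y => by
        simp only [Matrix.add_apply, mul_add, Finset.sum_add_distrib, Matrix.trace_add]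
        split_ifs <;> ring
      map_smul' := fun c X => by
        simp only [Matrix.smul_apply, smul_eq_mul, Matrix.trace_smul, RingHom.id_apply, mul_sub, Finset.mul_sum,
          mul_ite, mul_zero, mul_left_comm] }
  have hL : ∀ z, L (extendHom g z) = 0 := by
    intro z
    induction z with
    | zero => simp
    | add a b ha hb => rw [map_add, map_add, ha, hb, add_zero]
    | tmul c x =>
      rw [extendHom_tmul, map_smul]
      refine smul_eq_zero_of_right c ?_
      show ∑ i, ∑ j, quad g t p i j s * g x i j - _ = 0
      rw [key u x p s, hu, LinearMap.smulRight_apply, map_smul, map_one, Matrix.smul_apply, Matrix.one_apply,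
        ← hf, Algebra.smul_def, mul_ite, mul_one, mul_zero, sub_self]
  obtain ⟨z, hz⟩ := hg.2 (Matrix.single q r 1)
  have h := hL z
  rw [hz] at h
  change ∑ i, ∑ j, quad g t p i j s * Matrix.single q r (1 : S) i j - _ = 0 at h
  rw [sub_eq_zero, Finset.sum_eq_single q (fun i _ hi => Finset.sum_eq_zero fun j _ => by
      rw [Matrix.single_apply, if_neg fun hh => hi hh.1.symm, mul_zero]) (by simp),
    Finset.sum_eq_single r (fun j _ hj => by
      rw [Matrix.single_apply, if_neg fun hh => hj hh.2.symm, mul_zero]) (by simp),
    Matrix.single_apply, if_pos ⟨rfl, rfl⟩, mul_one] at h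
  rw [h]
  by_cases hqr : q = r
  · subst hqr
    simp [Matrix.trace, Matrix.single_apply, Finset.sum_ite_eq]
  · rw [Matrix.trace_single_eq_of_ne _ _ _ hqr, ite_self, if_neg fun hh => hqr hh.1]

end Groth.Agent.AzTPow
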