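/-
The antisymmetrizer in the `n`-th tensor power of an Azumaya algebra of rank `n ^ 2`.
-/
import Groth.Agent.AzTPow.Trace
import Groth.Agent.Brauer.Antisym
import Groth.Agent.Brauer.PiAlg
import Groth.Agent.S0585

set_option autoImplicit false
set_option linter.style.haveILetI false

universe u

open TensorProduct Matrix

noncomputable section

namespace Groth.Agent.AzTPow

open Brauer (kron kron_mul kron_one asym)

section Perm

variable (S : Type u) [CommRing S] (n : ℕ)

/-- permutation matrices on tensor indices -/
def permMat (π : Equiv.Perm (Fin n)) : Matrix (Fin n → Fin n) (Fin n → Fin n) S :=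
  Matrix.of fun I J => if J = I ∘ π then 1 else 0

theorem permMat_one : permMat S n 1 = 1 := by
  ext I J
  simp [permMat, Matrix.one_apply, eq_comm]

theorem permMat_mul (π σ : Equiv.Perm (Fin n)) : permMat S n π * permMat S n σ = permMat S n (π * σ) := by
  ext I K
  rw [Matrix.mul_apply, Finset.sum_eq_single (I ∘ π)]
  · simp only [permMat, Matrix.of_apply, if_pos, one_mul]
    rfl
  · intro J _ hJ; simp [permMat, hJ]
  · simp

theorem asym_eq_sum : asym S n n = ∑ π : Equiv.Perm (Fin n), ((Equiv.Perm.sign π : ℤ) : S) • permMat S n π := by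
  ext I J
  simp [asym, permMat, Matrix.sum_apply]

/-- the sign of a tuple -/
def sgnVec : (Fin n → Fin n) → S := fun I => asym S n n id I

theorem asym_eq_zero {I J : Fin n → Fin n} (h : ¬ Function.Injective I) : asym S n n I J = 0 := by
  classical
  obtain ⟨a, b, hab, hne⟩ := Function.not_injective_iff.1 h
  simp only [asym, Matrix.of_apply]
  refine Finset.sum_involution (fun π _ => Equiv.swap a b * π) (fun π _ => ?_) (fun π _ _ => ?_)
    (fun π _ => Finset.mem_univ _) fun π _ => by simp [← mul_assoc]
  · have h2 : I ∘ (Equiv.swap a b * π : Equiv.Perm (Fin n)) = I ∘ π := by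
      funext i
      show I (Equiv.swap a b (π i)) = I (π i)
      rcases eq_or_ne (π i) a with h | ha
      · rw [h, Equiv.swap_apply_left, hab]
      rcases eq_or_ne (π i) b with h | hb
      · rw [h, Equiv.swap_apply_right, hab]
      · rw [Equiv.swap_apply_of_ne_of_ne ha hb]
    rw [h2, map_mul, Equiv.Perm.sign_swap hne]
    split_ifs <;> simp
  · intro h
    exact hne (Equiv.swap_eq_one_iff.1 (mul_eq_right.1 h))

theorem asym_eq_vecMulVec : asym S n n = vecMulVec (sgnVec S n) (sgnVec S n) := by
  classical
  ext I J
  rw [vecMulVec_apply]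
  by_cases hI : Function.Injective I
  · obtain ⟨σ, rfl⟩ : ∃ σ : Equiv.Perm (Fin n), (σ : Fin n → Fin n) = I :=
      ⟨Equiv.ofBijective I (Finite.injective_iff_bijective.1 hI), rfl⟩
    have hv : sgnVec S n σ = ((Equiv.Perm.sign σ : ℤ) : S) := by
      simp only [sgnVec, asym, Matrix.of_apply]
      rw [Finset.sum_eq_single σ]
      · simp
      · intro π _ hπ
        exact if_neg fun h => hπ (Equiv.ext fun i => (congrFun h i).symm)
      · simp
    rw [hv]
    simp only [sgnVec, asym, Matrix.of_apply, Finset.mul_sum]
    refine Fintype.sum_equiv (Equiv.mulLeft σ) _ _ fun π => ?_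
    have h2 : (id : Fin n → Fin n) ∘ (Equiv.mulLeft σ π : Equiv.Perm (Fin n)) = σ ∘ π := rfl
    rw [h2]
    have h1 : ((Equiv.Perm.sign σ : ℤ) : S) * ((Equiv.Perm.sign σ : ℤ) : S) = 1 := by
      rw [← Int.cast_mul, ← Units.val_mul, Int.units_mul_self, Units.val_one, Int.cast_one]
    split_ifs
    · show _ = _ * ((Equiv.Perm.sign (σ * π) : ℤ) : S)
      rw [map_mul, Units.val_mul, Int.cast_mul, ← mul_assoc, h1, one_mul]
    · rw [mul_zero]
  · rw [asym_eq_zero S n hI, show sgnVec S n I = 0 from ?_, zero_mul]
    simp only [sgnVec, asym, Matrix.of_apply]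
    refine Finset.sum_eq_zero fun π _ => if_neg fun h => hI ?_
    rw [h]
    exact π.injective

theorem sgnVec_id : sgnVec S n id = 1 := by
  classical
  simp only [sgnVec, asym, Matrix.of_apply]
  rw [Finset.sum_eq_single (1 : Equiv.Perm (Fin n))]
  · simp
  · intro π _ hπ
    exact if_neg fun h => hπ (Equiv.ext fun i => (congrFun h i).symm)
  · simp

end Perm

variable {R : Type u} [CommRing R] {A : Type u} [Ring A] [Algebra R A] {n : ℕ} {S : Type u} [CommRing S]
  [Algebra R S] (g : A →ₐ[R] Matrix (Fin n) (Fin n) S)

/-- the representation of the tensor power -/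
def rho : (⨂[R] _ : Fin n, A) →ₐ[R] Matrix (Fin n → Fin n) (Fin n → Fin n) S :=
  PiTensorProduct.liftAlgHom
    { toFun := fun a => kron S fun i => g (a i)
      map_update_add' := fun {_} a i x y => by
        ext I J
        simp only [kron, Matrix.add_apply, Matrix.of_apply]
        rw [Finset.prod_congr rfl fun s _ => Function.apply_update (fun s (Q : A) => g Q (I s) (J s)) a i (x + y) s,
          Finset.prod_congr rfl fun s _ => Function.apply_update (fun s (Q : A) => g Q (I s) (J s)) a i x s,
          Finset.prod_congr rfl fun s _ => Function.apply_update (fun s (Q : A) => g Q (I s) (J s)) a i y s]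
        rw [map_add, Matrix.add_apply, Finset.prod_update_of_mem (Finset.mem_univ i),
          Finset.prod_update_of_mem (Finset.mem_univ i), Finset.prod_update_of_mem (Finset.mem_univ i), add_mul]
      map_update_smul' := fun {inst} a i c x => by
        obtain rfl : inst = instDecidableEqFin n := Subsingleton.elim _ _
        ext I J
        simp only [kron, Matrix.smul_apply, Matrix.of_apply]
        rw [Finset.prod_congr rfl fun s _ => Function.apply_update (fun s (Q : A) => g Q (I s) (J s)) a i (c • x) s,
          Finset.prod_congr rfl fun s _ => Function.apply_update (fun s (Q : A) => g Q (I s) (J s)) a i x s]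
        rw [show g (c • x) = c • g x from g.toLinearMap.map_smul c x, Matrix.smul_apply, Finset.prod_update_of_mem (Finset.mem_univ i),
          Finset.prod_update_of_mem (Finset.mem_univ i), smul_mul_assoc] }
    (by
      show kron S (fun _ : Fin n => g 1) = 1
      rw [map_one]
      exact kron_one S)
    (fun x y => by
      show kron S (fun i => g (x i * y i)) = kron S (fun i => g (x i)) * kron S (fun i => g (y i))
      rw [← kron_mul]
      exact congrArg (kron S) (funext fun i => map_mul g (x i) (y i)))

theorem rho_tprod (a : Fin n → A) : rho g (PiTensorProduct.tprod R a) = kron S fun i => g (a i) :=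
  PiTensorProduct.lift.tprod a

theorem surjective_extend_rho (hg : Function.Surjective (extendHom g)) : Function.Surjective (extendHom (rho g)) := by
  classical
  have hspanA : ∀ M : Matrix (Fin n) (Fin n) S, M ∈ Submodule.span S (Set.range g) := fun M => by
    obtain ⟨x, rfl⟩ := hg M
    induction x with
    | zero => rw [map_zero]; exact zero_mem _
    | add x y hx hy => rw [map_add]; exact add_mem hx hy
    | tmul l a => rw [extendHom_tmul]; exact Submodule.smul_mem _ _ (Submodule.subset_span ⟨a, rfl⟩)
  have hkron : ∀ M : Fin n → Matrix (Fin n) (Fin n) S, kron S M ∈ LinearMap.range (extendHom (rho g)).toLinearMap := by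
    suffices ∀ (T : Finset (Fin n)) (M : Fin n → Matrix (Fin n) (Fin n) S),
        (∀ s, s ∉ T → M s ∈ Set.range g) → kron S M ∈ LinearMap.range (extendHom (rho g)).toLinearMap from
      fun M => this Finset.univ M (fun s hs => absurd (Finset.mem_univ s) hs)
    intro T
    induction T using Finset.induction_on with
    | empty =>
      intro M hM
      choose a ha using fun s => hM s (Finset.notMem_empty s)
      exact ⟨1 ⊗ₜ PiTensorProduct.tprod R a, (extendHom_tmul _ 1 _).trans (by
        rw [one_smul, rho_tprod]
        exact congrArg (kron S) (funext ha))⟩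
    | insert i T hi ih =>
      intro M hM
      suffices ∀ Q ∈ Submodule.span S (Set.range g),
          kron S (Function.update M i Q) ∈ LinearMap.range (extendHom (rho g)).toLinearMap by
        simpa using this _ (hspanA (M i))
      intro Q hQ
      have hupd : ∀ (I J : Fin n → Fin n) (X : Matrix (Fin n) (Fin n) S),
          kron S (Function.update M i X) I J = X (I i) (J i) * ∏ s ∈ Finset.univ.erase i, M s (I s) (J s) := by
        intro I J X
        simp only [kron, Matrix.of_apply]
        rw [← Finset.mul_prod_erase Finset.univ _ (Finset.mem_univ i), Function.update_self]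
        congr 1
        exact Finset.prod_congr rfl fun s hs => by rw [Function.update_of_ne (Finset.ne_of_mem_erase hs)]
      induction hQ using Submodule.span_induction with
      | mem Q hQ =>
        refine ih _ fun s hs => ?_
        by_cases h : s = i
        · subst h; simpa using hQ
        · rw [Function.update_of_ne h]; exact hM s (by simp [h, hs])
      | zero =>
        rw [show kron S (Function.update M i 0) = 0 from Matrix.ext fun I J => by simp [hupd]]
        exact zero_mem _
      | add P Q _ _ hP hQ =>
        rw [show kron S (Function.update M i (P + Q)) = kron S (Function.update M i P) + kron S (Function.update M i Q) from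
          Matrix.ext fun I J => by simp [hupd, add_mul]]
        exact add_mem hP hQ
      | smul c Q _ hQ =>
        rw [show kron S (Function.update M i (c • Q)) = c • kron S (Function.update M i Q) from
          Matrix.ext fun I J => by simp [hupd, mul_assoc]]
        exact Submodule.smul_mem _ c hQ
  intro X
  have hX : X ∈ LinearMap.range (extendHom (rho g)).toLinearMap := by
    rw [Matrix.matrix_eq_sum_single X]
    refine sum_mem fun I _ => sum_mem fun J _ => ?_
    rw [show Matrix.single I J (X I J) = X I J • Matrix.single I J (1 : S) by simp]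
    refine Submodule.smul_mem _ _ ?_
    convert hkron (fun s => Matrix.single (I s) (J s) 1) using 1
    ext P Q
    simp only [kron, Matrix.of_apply, Matrix.single_apply, Fintype.prod_boole]
    simp [funext_iff, forall_and]
  exact hX

/-- Tensor powers are finite and split. -/
theorem exists_basis (hg : Function.Bijective (extendHom g)) [Module.Finite R A] : ∀ r : ℕ,
    Module.Finite R (Brauer.pw R A r) ∧
      Nonempty (Module.Basis (Fin r → Fin n × Fin n) S (S ⊗[R] Brauer.pw R A r))
  | 0 => by
    let e := (Brauer.pwZero R A).toLinearEquiv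
    refine ⟨Module.Finite.equiv e.symm, ⟨?_⟩⟩
    exact ((Module.Basis.singleton (Fin 0 → Fin n × Fin n) S).map
      ((e.baseChange R S _ _).trans (TensorProduct.AlgebraTensorModule.rid R S S)).symm)
  | r + 1 => by
    obtain ⟨hf, ⟨b⟩⟩ := exists_basis hg r
    let e := (Brauer.pwSucc R A r).toLinearEquiv
    haveI := hf
    refine ⟨Module.Finite.equiv e.symm, ⟨?_⟩⟩
    let bA : Module.Basis (Fin n × Fin n) S (S ⊗[R] A) :=
      (Matrix.stdBasis S (Fin n) (Fin n)).map (LinearEquiv.ofBijective (extendHom g).toLinearMap hg).symm
    exact ((b.tensorProduct bA).map ((e.baseChange R S _ _).trans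
      (TensorProduct.AlgebraTensorModule.distribBaseChange R S (Brauer.pw R A r) A)).symm).reindex
        ((Equiv.prodComm _ _).trans (Fin.snocEquiv fun _ : Fin (r + 1) => Fin n × Fin n))

theorem bijective_extend_rho (hg : Function.Bijective (extendHom g)) [Module.Finite R A] :
    Function.Bijective (extendHom (rho g)) := by
  obtain ⟨-, ⟨b⟩⟩ := exists_basis g hg n
  let e : S ⊗[R] (⨂[R] _ : Fin n, A) ≃ₗ[S] Matrix (Fin n → Fin n) (Fin n → Fin n) S :=
    b.equiv (Matrix.stdBasis S (Fin n → Fin n) (Fin n → Fin n)) (Equiv.arrowProdEquivProdArrow (Fin n) (fun _ => Fin n) (fun _ => Fin n))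
  let q := (extendHom (rho g)).toLinearMap.comp e.symm.toLinearMap
  have hq : Function.Surjective q := (surjective_extend_rho g hg.2).comp e.symm.surjective
  have hqi := OrzechProperty.injective_of_surjective_endomorphism q hq
  refine ⟨fun x y h => e.injective (hqi ?_), surjective_extend_rho g hg.2⟩
  simpa [q] using h

/-- Swaps are in the image. -/
theorem exists_swap [IsAzumaya R A] [Module.FaithfullyFlat R S] (hg : Function.Bijective (extendHom g))
    (π : Equiv.Perm (Fin n)) : ∃ b, rho g b = permMat S n π := by
  classical
  obtain ⟨t, ht⟩ := exists_goldman g hg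
  induction π using Equiv.Perm.swap_induction_on with
  | one => exact ⟨1, by rw [map_one, permMat_one]⟩
  | swap_mul σ i j hij ih =>
    obtain ⟨b, hb⟩ := ih
    let ι : A ⊗[R] A →ₗ[R] ⨂[R] _ : Fin n, A :=
      TensorProduct.lift ((LinearMap.mul R (⨂[R] _ : Fin n, A)).compl₁₂
        (PiTensorProduct.singleAlgHom (R := R) (A := fun _ : Fin n => A) i).toLinearMap
        (PiTensorProduct.singleAlgHom (R := R) (A := fun _ : Fin n => A) j).toLinearMap)
    refine ⟨ι t * b, ?_⟩
    rw [map_mul, hb, ← permMat_mul]
    congr 1
    have key : ∀ u, ∀ I J, rho g (ι u) I J =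
        (if ∀ k, k ≠ i → k ≠ j → I k = J k then 1 else 0) * quad g u (I i) (J i) (I j) (J j) := by
      intro u I J
      induction u with
      | zero => simp
      | add a b ha hb => simp only [map_add, Matrix.add_apply, Pi.add_apply, mul_add, ha, hb]
      | tmul a b =>
        show rho g (PiTensorProduct.tprod R (MonoidHom.mulSingle _ i a) * PiTensorProduct.tprod R (MonoidHom.mulSingle _ j b)) I J = _
        rw [PiTensorProduct.tprod_mul_tprod, rho_tprod, quad_tmul]
        simp only [kron, Matrix.of_apply, MonoidHom.mulSingle_apply, Pi.mul_apply]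
        rw [← Finset.mul_prod_erase Finset.univ _ (Finset.mem_univ i),
          ← Finset.mul_prod_erase (Finset.univ.erase i) _ (Finset.mem_erase.mpr ⟨hij.symm, Finset.mem_univ j⟩)]
        rw [Pi.mulSingle_eq_same, Pi.mulSingle_eq_same, Pi.mulSingle_eq_of_ne hij, Pi.mulSingle_eq_of_ne hij.symm,
          mul_one, one_mul, Finset.prod_congr rfl (fun k hk => show _ = if I k = J k then (1 : S) else 0 by
            simp only [Finset.mem_erase] at hk
            rw [Pi.mulSingle_eq_of_ne hk.2.1, Pi.mulSingle_eq_of_ne hk.1, mul_one, map_one, Matrix.one_apply]),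
          Finset.prod_boole]
        simp only [Finset.mem_erase, Finset.mem_univ, and_true]
        split_ifs with h1 h2 h3
        · ring
        · exact absurd (fun k hk1 hk2 => h1 k ⟨hk2, hk1⟩) h2
        · exact absurd (fun k hk => h3 k hk.2 hk.1) h1
        · ring
    ext I J
    rw [key, ht]
    simp only [permMat, Matrix.of_apply]
    have hiff : J = I ∘ Equiv.swap i j ↔ (∀ k, k ≠ i → k ≠ j → I k = J k) ∧ J i = I j ∧ I i = J j := by
      constructor
      · rintro rfl
        exact ⟨fun k h1 h2 => by simp [Equiv.swap_apply_of_ne_of_ne h1 h2], by simp, by simp⟩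
      · rintro ⟨h1, h2, h3⟩
        funext k
        show J k = I (Equiv.swap i j k)
        rcases eq_or_ne k i with rfl | hki
        · rw [Equiv.swap_apply_left, h2]
        rcases eq_or_ne k j with rfl | hkj
        · rw [Equiv.swap_apply_right, h3]
        · rw [Equiv.swap_apply_of_ne_of_ne hki hkj, h1 k hki hkj]
    rw [ite_zero_mul_ite_zero, one_mul]
    exact if_congr hiff.symm rfl rfl

/-- The antisymmetrizer descends. -/
theorem exists_alt [IsAzumaya R A] [Module.FaithfullyFlat R S] (hg : Function.Bijective (extendHom g)) :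
    ∃ s, rho g s = asym S n n := by
  classical
  choose b hb using exists_swap g hg
  refine ⟨∑ π : Equiv.Perm (Fin n), (Equiv.Perm.sign π : ℤ) • b π, ?_⟩
  rw [map_sum, asym_eq_sum]
  refine Finset.sum_congr rfl fun π _ => ?_
  rw [map_zsmul, hb, Int.cast_smul_eq_zsmul]

theorem bijective_descend {R : Type u} [CommRing R] (S : Type u) [CommRing S] [Algebra R S] [Module.FaithfullyFlat R S]
    {M N : Type u} [Semiring M] [Semiring N] [Algebra R M] [Algebra R N] (f : M →ₐ[R] N)
    (h : Function.Bijective (f.toLinearMap.lTensor S)) : Function.Bijective f :=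
  letI : Ring M := Algebra.semiringToRing R
  letI : Ring N := Algebra.semiringToRing R
  (Module.FaithfullyFlat.lTensor_bijective_iff_bijective R S f.toLinearMap).1 h

/-- The tensor power is the endomorphism algebra of a projective module. -/
theorem exists_end (R : Type u) [CommRing R] (A : Type u) [Ring A] [Algebra R A] [IsAzumaya R A] (n : ℕ)
    (hrk : ∀ p : PrimeSpectrum R, Module.rankAtStalk (R := R) A p = n ^ 2) :
    ∃ (E : Type u) (_ : AddCommGroup E) (_ : Module R E), Module.Finite R E ∧ Module.Projective R E ∧
      (∀ p : PrimeSpectrum R, Module.rankAtStalk (R := R) E p = n ^ n) ∧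
      Nonempty ((⨂[R] _ : Fin n, A) ≃ₐ[R] Module.End R E) := by
  classical
  obtain ⟨S, _, _, hff, g, hg⟩ := exists_splitting R A hrk
  obtain ⟨s, hs⟩ := exists_alt g hg
  haveI : Module.Finite R (⨂[R] _ : Fin n, A) := (exists_basis g hg n).1
  have hΨ := bijective_extend_rho g hg
  let E : Submodule R (⨂[R] _ : Fin n, A) := LinearMap.range (LinearMap.mulRight R s)
  haveI : Module.Finite R E := Module.Finite.range _
  let v := sgnVec S n
  let col : Matrix (Fin n → Fin n) (Fin n → Fin n) S →ₗ[S] ((Fin n → Fin n) → S) :=
    { toFun := fun X I => X I id, map_add' := fun _ _ => rfl, map_smul' := fun _ _ => rfl }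
  let κ : S ⊗[R] E →ₗ[S] ((Fin n → Fin n) → S) :=
    col.comp ((extendHom (rho g)).toLinearMap.comp (E.subtype.baseChange S))
  have hE : ∀ e : E, ∃ b, rho g (e : ⨂[R] _ : Fin n, A) = vecMulVec (rho g b *ᵥ v) v := by
    rintro ⟨_, b, rfl⟩
    refine ⟨b, ?_⟩
    show rho g (b * s) = _
    rw [map_mul, hs, asym_eq_vecMulVec, Matrix.mul_vecMulVec]
  have hκv : ∀ z, extendHom (rho g) (E.subtype.baseChange S z) = vecMulVec (κ z) v := by
    intro z
    induction z with
    | zero => simp
    | add a b ha hb => rw [map_add, map_add, map_add, ha, hb, Matrix.add_vecMulVec]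
    | tmul c e =>
      obtain ⟨b, hb⟩ := hE e
      ext I J
      show extendHom (rho g) (c ⊗ₜ[R] (e : ⨂[R] _ : Fin n, A)) I J = extendHom (rho g) (c ⊗ₜ[R] (e : ⨂[R] _ : Fin n, A)) I id * v J
      rw [extendHom_tmul, hb]
      simp [vecMulVec_apply, v, sgnVec_id, mul_assoc]
  have hκi : Function.Injective κ := fun z w h => by
    have h1 : Function.Injective (E.subtype.baseChange S) :=
      Module.Flat.lTensor_preserves_injective_linearMap (M := S) E.subtype Subtype.val_injective
    apply h1
    apply hΨ.1
    rw [hκv, hκv, h]
  have hκs : Function.Surjective κ := fun u => by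
    obtain ⟨z, hz⟩ := hΨ.2 (vecMulVec u (Pi.single id 1))
    refine ⟨((LinearMap.mulRight R s).codRestrict E fun x => ⟨x, rfl⟩).baseChange S z, ?_⟩
    have h1 : ∀ z, extendHom (rho g) (E.subtype.baseChange S
        (((LinearMap.mulRight R s).codRestrict E fun x => ⟨x, rfl⟩).baseChange S z)) =
          extendHom (rho g) z * asym S n n := by
      intro z
      induction z with
      | zero => simp
      | add a b ha hb => simp only [map_add, add_mul, ha, hb]
      | tmul c b =>
        rw [LinearMap.baseChange_tmul, LinearMap.baseChange_tmul, extendHom_tmul, extendHom_tmul]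
        show c • rho g (b * s) = _
        rw [map_mul, hs, smul_mul_assoc]
    funext I
    show extendHom (rho g) _ I id = u I
    rw [h1, hz, asym_eq_vecMulVec, Matrix.vecMulVec_mul_vecMulVec]
    simp [vecMulVec_apply, sgnVec_id, dotProduct, Pi.single_apply]
  let κe : S ⊗[R] E ≃ₗ[S] ((Fin n → Fin n) → S) := LinearEquiv.ofBijective κ ⟨hκi, hκs⟩
  haveI : Module.Projective S (S ⊗[R] E) := Module.Projective.of_equiv κe.symm
  haveI : Module.Projective R E := S0585.result R S E
  refine ⟨E, inferInstance, inferInstance, inferInstance, inferInstance, fun p => ?_, ?_⟩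
  · obtain ⟨q, rfl⟩ := PrimeSpectrum.comap_surjective_of_faithfullyFlat (A := R) (B := S) p
    haveI : Nontrivial S := q.nontrivial
    haveI : Module.Free S (S ⊗[R] E) := Module.Free.of_equiv κe.symm
    haveI : Module.Finite S (S ⊗[R] E) := Module.Finite.equiv κe.symm
    rw [← Module.rankAtStalk_baseChange, Module.rankAtStalk_eq_finrank_of_free]
    simp [κe.finrank_eq]
  let lamL : (⨂[R] _ : Fin n, A) →ₗ[R] Module.End R E :=
    { toFun := fun t => (LinearMap.mulLeft R t).restrict (p := E) (q := E) (by
        rintro _ ⟨y, rfl⟩; exact ⟨t * y, mul_assoc t y s⟩)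
      map_add' := fun t t' => LinearMap.ext fun m => Subtype.ext (add_mul t t' _)
      map_smul' := fun r t => LinearMap.ext fun m => Subtype.ext (smul_mul_assoc r t _) }
  let lam : (⨂[R] _ : Fin n, A) →ₐ[R] Module.End R E := AlgHom.ofLinearMap lamL
    (LinearMap.ext fun m => Subtype.ext (one_mul _))
    (fun t t' => LinearMap.ext fun m => Subtype.ext (mul_assoc t t' _))
  refine ⟨AlgEquiv.ofBijective lam ?_⟩
  refine bijective_descend S lam ?_
  have hF : ∀ z w, κ (LinearMap.tensorProductEnd R S E (lam.toLinearMap.lTensor S z) w) =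
      extendHom (rho g) z *ᵥ κ w := by
    intro z w
    induction z with
    | zero => simp
    | add a b ha hb => simp only [map_add, LinearMap.add_apply, Matrix.add_mulVec, ha, hb]
    | tmul c b =>
      induction w with
      | zero => simp
      | add a b ha hb => simp only [map_add, Matrix.mulVec_add, ha, hb]
      | tmul d e =>
        rw [LinearMap.lTensor_tmul, Azumaya.tEnd_tmul]
        funext I
        show extendHom (rho g) ((c * d) ⊗ₜ[R] (b * (e : ⨂[R] _ : Fin n, A))) I id =
          (extendHom (rho g) (c ⊗ₜ[R] b) *ᵥ fun J => extendHom (rho g) (d ⊗ₜ[R] (e : ⨂[R] _ : Fin n, A)) J id) I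
        rw [← Algebra.TensorProduct.tmul_mul_tmul, map_mul, Matrix.mul_apply]
        rfl
  let Θ : Matrix (Fin n → Fin n) (Fin n → Fin n) S ≃ₗ[S] Module.End S (S ⊗[R] E) :=
    (Matrix.toLin' (R := S)).trans (κe.symm.conj)
  have hcomp : (LinearMap.tensorProductEnd R S E ∘ lam.toLinearMap.lTensor S) = Θ ∘ extendHom (rho g) := by
    funext z
    refine LinearMap.ext fun w => κe.injective ?_
    simp only [Function.comp_apply, Θ, LinearEquiv.trans_apply, LinearEquiv.conj_apply_apply,
      LinearEquiv.apply_symm_apply, LinearEquiv.symm_symm, Matrix.toLin'_apply]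
    exact hF z w
  have hb : Function.Bijective (LinearMap.tensorProductEnd R S E ∘ lam.toLinearMap.lTensor S) := by
    rw [hcomp]; exact Θ.bijective.comp hΨ
  exact (Function.Bijective.of_comp_iff' (Azumaya.bijective_tensorProductEnd S E) _).1 hb

end Groth.Agent.AzTPow
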